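import Groth.Agent.RelTildeX.Exist
import Groth.Agent.QCoh.AlgGen

/-!
Existence of the twisting sheaves of a relative `Proj`.
-/

noncomputable section

universe u

set_option backward.isDefEq.respectTransparency false

open CategoryTheory CategoryTheory.Limits AlgebraicGeometry TopologicalSpace Opposite Groth.Agent.QCoh
open scoped HomogeneousIdeal

namespace Groth.Agent.RelTildeX

variable {Y P : Scheme.{u}} (𝒮 : RelProj.QCGrAlg Y)

/-- The algebra as a graded module over itself. -/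
def selfMod : RelProj.GrModule 𝒮 where
  mod := SheafOfModules.unit (AMod.ringSheaf 𝒮.toQCAlg)
  deg U hU d := 𝒮.deg U hU d
  decomp U hU := inferInstanceAs (DirectSum.Decomposition (𝒮.deg U hU))
  gradedSMul U hU := ⟨fun {i j} a b ha hb => SetLike.mul_mem_graded (A := 𝒮.deg U hU) ha hb⟩
  map_mem {U V} hU hV i {d m} hm := (𝒮.res hU hV i).map_mem hm

/-- The algebra as a graded module over itself has the underlying module of the algebra. -/
def selfModIso : (AMod.toOS 𝒮.toQCAlg).obj (selfMod 𝒮).mod ≅ 𝒮.toModule where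
  hom := ⟨PresheafOfModules.homMk
    { app := fun W => AddCommGrpCat.ofHom (AddMonoidHom.mk' (fun s => s) fun _ _ => rfl)
      naturality := fun _ _ _ => rfl } fun _ _ _ => rfl⟩
  inv := ⟨PresheafOfModules.homMk
    { app := fun W => AddCommGrpCat.ofHom (AddMonoidHom.mk' (fun s => s) fun _ _ => rfl)
      naturality := fun _ _ _ => rfl } fun _ _ _ => rfl⟩
  hom_inv_id := rfl
  inv_hom_id := rfl

theorem isQCoh_selfMod : Coh.IsQCoh ((AMod.toOS 𝒮.toQCAlg).obj (selfMod 𝒮).mod) :=
  (isQCoh_iff_iso (selfModIso 𝒮)).2 (isQCoh_toModule 𝒮.toQCAlg)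

variable {p : P ⟶ Y}
  {chart : ∀ (U : Y.Opens) (hU : IsAffineOpen U), (((p ⁻¹ᵁ U : P.Opens) : Scheme.{u}) ≅ Proj (𝒮.deg U hU))}

theorem exists_isRelTwist (hP : RelProj.IsRelProj 𝒮 p chart) (n : ℤ) :
    ∃ (L : P.Modules) (lam : ∀ (U : Y.Opens) (hU : IsAffineOpen U),
      L ⟶ (Scheme.Modules.pushforward (RelProj.emb p chart U hU)).obj (GrTwist.twist (𝒮.deg U hU) n)),
      RelProj.IsRelTwist 𝒮 p chart n L lam := by
  obtain ⟨F, lam, h⟩ := Exist.exists_isRelTilde hP (selfMod 𝒮) n (isQCoh_selfMod 𝒮)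
  refine ⟨F, fun U hU => lam U hU, h.bijective, fun U hU r W s y hy hy' => ?_⟩
  refine (h.compat U hU r W s y hy hy').trans ?_
  have key : ∀ q : GrMod.LocMod (𝒮.deg U hU) (M := 𝒮.presheaf.obj (op U)) (ProjectiveSpectrum.comap
      (𝒮.res hU (hU.basicOpen r) (Y.basicOpen_le r)) (𝒮.irrelevant_le_map U hU r) y),
      GrMod.locModMap (𝒮.res hU (hU.basicOpen r) (Y.basicOpen_le r)) (𝒮.irrelevant_le_map U hU r)
        ((selfMod 𝒮).res hU (hU.basicOpen r) (Y.basicOpen_le r)) y q =
      GrTwist.locMap (𝒮.res hU (hU.basicOpen r) (Y.basicOpen_le r)) (𝒮.irrelevant_le_map U hU r) y q := fun q => by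
    induction q using LocalizedModule.induction_on with
    | h m s => exact (GrMod.locModMap_mk _ _ _ y m s).trans (GrTwist.locMap_mk _ _ _ m s).symm
  exact key _

end Groth.Agent.RelTildeX
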