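import Groth.Agent.RelTildeX.Twist
import Groth.Agent.TwAdj35.InvZero
import Groth.Agent.Proj16.RelExist

/-!
Existence of the module `ℳ(n)~` on a relative `Proj`.
-/

noncomputable section

universe u

open CategoryTheory CategoryTheory.Limits AlgebraicGeometry TopologicalSpace Opposite Groth.Agent.QCoh
open scoped HomogeneousIdeal

namespace Groth.Agent.RelTildeX.Exist

variable {Y P : Scheme.{u}} {𝒮 : RelProj.QCGrAlg Y} {p : P ⟶ Y}
  {chart : ∀ (U : Y.Opens) (hU : IsAffineOpen U), (((p ⁻¹ᵁ U : P.Opens) : Scheme.{u}) ≅ Proj (𝒮.deg U hU))}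
  (hP : RelProj.IsRelProj 𝒮 p chart) (ℳ : RelProj.GrModule 𝒮) (n : ℤ)

/-- `E` is a basic open of `U`. -/
def Bas (U E : Y.affineOpens) : Prop := ∃ r : Γ(Y, U.1), E.1 = Y.basicOpen r

lemma Bas.le {U E : Y.affineOpens} (h : Bas U E) : E.1 ≤ U.1 := by
  obtain ⟨r, hr⟩ := h
  exact hr.le.trans (Y.basicOpen_le r)

lemma Bas.trans {U E F : Y.affineOpens} (h : Bas U E) (h' : Bas E F) : Bas U F := by
  obtain ⟨⟨E, hE⟩, rfl⟩ : ∃ E' : Y.affineOpens, E' = E := ⟨E, rfl⟩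
  obtain ⟨r, rfl⟩ := h
  obtain ⟨g, hg⟩ := h'
  obtain ⟨f, hf⟩ := U.2.basicOpen_basicOpen_is_basicOpen r g
  exact ⟨f, hg.trans hf.symm⟩

/-- Common basic opens. -/
lemma exists_bas (U V : Y.affineOpens) {y : Y} (hy : y ∈ U.1 ⊓ V.1) :
    ∃ E : Y.affineOpens, Bas U E ∧ Bas V E ∧ y ∈ E.1 := by
  obtain ⟨r, r', e, h⟩ := exists_basicOpen_le_affine_inter U.2 V.2 y ⟨hy.1, hy.2⟩
  exact ⟨⟨_, U.2.basicOpen r⟩, ⟨r, rfl⟩, ⟨r', e⟩, h⟩

/-- The module on the chart, pushed forward. -/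
abbrev G (U : Y.affineOpens) : P.Modules :=
  (Scheme.Modules.pushforward (RelProj.emb p chart U.1 U.2)).obj (GrMod.tilde (𝒮.deg U.1 U.2) (ℳ.deg U.1 U.2) n)

/-- The comparison to a basic open, before unfolding the abbreviations. -/
def phi' (U : Y.Opens) (hU : IsAffineOpen U) (r : Γ(Y, U)) :
    (Scheme.Modules.pushforward (RelProj.emb p chart U hU)).obj (GrMod.tilde (𝒮.deg U hU) (ℳ.deg U hU) n) ⟶
    (Scheme.Modules.pushforward (RelProj.emb p chart (Y.basicOpen r) (hU.basicOpen r))).obj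
      (GrMod.tilde (𝒮.deg (Y.basicOpen r) (hU.basicOpen r)) (ℳ.deg (Y.basicOpen r) (hU.basicOpen r)) n) :=
  (Scheme.Modules.pushforward (RelProj.emb p chart U hU)).map
      (GrMod.comap (𝒮.res hU (hU.basicOpen r) (Y.basicOpen_le r)) (𝒮.irrelevant_le_map U hU r)
        (ℳ.res hU (hU.basicOpen r) (Y.basicOpen_le r))
        (fun i m hm => ℳ.res_mem hU (hU.basicOpen r) (Y.basicOpen_le r) i m hm) n) ≫
    (Scheme.Modules.pushforwardComp (Proj.map (𝒮.res hU (hU.basicOpen r) (Y.basicOpen_le r)) (𝒮.irrelevant_le_map U hU r))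
        (RelProj.emb p chart U hU)).hom.app
      (GrMod.tilde (𝒮.deg (Y.basicOpen r) (hU.basicOpen r)) (ℳ.deg (Y.basicOpen r) (hU.basicOpen r)) n) ≫
    (Scheme.Modules.pushforwardCongr (RelProj.map_res_emb hP U hU r)).hom.app _

/-- The comparison to a basic open. -/
def phi (U : Y.Opens) (hU : IsAffineOpen U) (r : Γ(Y, U)) :
    G (chart := chart) ℳ n ⟨U, hU⟩ ⟶ G (chart := chart) ℳ n ⟨Y.basicOpen r, hU.basicOpen r⟩ :=
  phi' hP ℳ n U hU r

/-- The comparison to a basic open, any representation. -/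
def psi {U E : Y.affineOpens} (h : Bas U E) : G (chart := chart) ℳ n U ⟶ G (chart := chart) ℳ n E :=
  phi hP ℳ n U.1 U.2 h.choose ≫ eqToHom (congrArg _ (Subtype.ext h.choose_spec.symm))

lemma hit (U : Y.affineOpens) {x : P} (hx : x ∈ p ⁻¹ᵁ U.1) :
    ∃ y, RelProj.emb p chart U.1 U.2 y = x := by
  rw [← opensRange_emb p chart U.1 U.2] at hx
  exact hx

lemma mem_preimage (U : Y.affineOpens) (y : Proj (𝒮.deg U.1 U.2)) :
    RelProj.emb p chart U.1 U.2 y ∈ p ⁻¹ᵁ U.1 := by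
  rw [← opensRange_emb p chart U.1 U.2]
  exact ⟨y, rfl⟩

lemma phi_frac {U : Y.Opens} (hU : IsAffineOpen U) (r : Γ(Y, U)) {E : Y.affineOpens} (e : E.1 = Y.basicOpen r)
    {W : P.Opens} (t : Γ(G (chart := chart) ℳ n ⟨U, hU⟩, W))
    (y : Proj (𝒮.deg E.1 E.2)) (hy : RelProj.emb p chart E.1 E.2 y ∈ W)
    (x : Proj (𝒮.deg U hU)) (hxy : RelProj.emb p chart U hU x = RelProj.emb p chart E.1 E.2 y)
    (hxW : RelProj.emb p chart U hU x ∈ W)
    {m : ℳ.mod.val.obj (op U)} {s : 𝒮.presheaf.obj (op U)} (hs : s ∉ x.asHomogeneousIdeal)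
    (ht : GrMod.val (V := RelProj.emb p chart U hU ⁻¹ᵁ W) t ⟨x, hxW⟩ = LocalizedModule.mk m ⟨s, hs⟩) :
    ∃ hs' : 𝒮.res hU E.2 (e.le.trans (Y.basicOpen_le r)) s ∉ y.asHomogeneousIdeal,
      GrMod.val (V := RelProj.emb p chart E.1 E.2 ⁻¹ᵁ W)
        ((phi hP ℳ n U hU r ≫ eqToHom (congrArg (G (chart := chart) ℳ n) (Subtype.ext e.symm))).app W t) ⟨y, hy⟩ =
        LocalizedModule.mk (ℳ.res hU E.2 (e.le.trans (Y.basicOpen_le r)) m) ⟨_, hs'⟩ := by
  obtain ⟨E, hE⟩ := E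
  simp only at e
  subst e
  obtain rfl : x = ProjectiveSpectrum.comap (𝒮.res hU (hU.basicOpen r) (Y.basicOpen_le r))
      (𝒮.irrelevant_le_map U hU r) y := by
    apply (RelProj.emb p chart U hU).isOpenEmbedding.injective
    exact hxy.trans (congrArg (fun ψ : Proj (𝒮.deg (Y.basicOpen r) (hU.basicOpen r)) ⟶ P => ψ.base y)
      (RelProj.map_res_emb hP U hU r)).symm
  refine ⟨hs, ?_⟩
  rw [eqToHom_refl, Category.comp_id]
  refine Eq.trans ?_ ((congrArg (GrMod.locModMap (𝒮.res hU (hU.basicOpen r) (Y.basicOpen_le r))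
    (𝒮.irrelevant_le_map U hU r) (ℳ.res hU (hU.basicOpen r) (Y.basicOpen_le r)) y) ht).trans
      (GrMod.locModMap_mk _ _ _ y m ⟨s, hs⟩))
  rfl

lemma psi_frac {U E : Y.affineOpens} (h : Bas U E) {W : P.Opens} (t : Γ(G (chart := chart) ℳ n U, W))
    (y : Proj (𝒮.deg E.1 E.2)) (hy : RelProj.emb p chart E.1 E.2 y ∈ W)
    (x : Proj (𝒮.deg U.1 U.2)) (hxy : RelProj.emb p chart U.1 U.2 x = RelProj.emb p chart E.1 E.2 y)
    (hxW : RelProj.emb p chart U.1 U.2 x ∈ W)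
    {m : ℳ.mod.val.obj (op U.1)} {s : 𝒮.presheaf.obj (op U.1)} (hs : s ∉ x.asHomogeneousIdeal)
    (ht : GrMod.val (V := RelProj.emb p chart U.1 U.2 ⁻¹ᵁ W) t ⟨x, hxW⟩ = LocalizedModule.mk m ⟨s, hs⟩) :
    ∃ hs' : 𝒮.res U.2 E.2 h.le s ∉ y.asHomogeneousIdeal,
      GrMod.val (V := RelProj.emb p chart E.1 E.2 ⁻¹ᵁ W) ((psi hP ℳ n h).app W t) ⟨y, hy⟩ =
        LocalizedModule.mk (ℳ.res U.2 E.2 h.le m) ⟨_, hs'⟩ :=
  phi_frac hP ℳ n U.2 h.choose h.choose_spec t y hy x hxy hxW hs ht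

lemma exists_mk {U : Y.affineOpens} {W : P.Opens} (t : Γ(G (chart := chart) ℳ n U, W))
    (x : Proj (𝒮.deg U.1 U.2)) (hxW : RelProj.emb p chart U.1 U.2 x ∈ W) :
    ∃ (m : ℳ.mod.val.obj (op U.1)) (s : 𝒮.presheaf.obj (op U.1)) (hs : s ∉ x.asHomogeneousIdeal),
      GrMod.val (V := RelProj.emb p chart U.1 U.2 ⁻¹ᵁ W) t ⟨x, hxW⟩ = LocalizedModule.mk m ⟨s, hs⟩ := by
  induction (GrMod.val (V := RelProj.emb p chart U.1 U.2 ⁻¹ᵁ W) t ⟨x, hxW⟩) using LocalizedModule.induction_on with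
  | h m s => exact ⟨m, s.1, s.2, rfl⟩

lemma psi_comp {U E F : Y.affineOpens} (h : Bas U E) (h' : Bas E F) (h'' : Bas U F) {W : P.Opens}
    (t : Γ(G (chart := chart) ℳ n U, W)) :
    (psi hP ℳ n h').app W ((psi hP ℳ n h).app W t) = (psi hP ℳ n h'').app W t := by
  refine GrModX.ext_val _ _ fun ⟨y, hy⟩ => ?_
  obtain ⟨z, hz⟩ := hit (chart := chart) E (show RelProj.emb p chart F.1 F.2 y ∈ p ⁻¹ᵁ E.1 from
    p.preimage_mono h'.le (mem_preimage F y))
  obtain ⟨x, hx⟩ := hit (chart := chart) U (show RelProj.emb p chart F.1 F.2 y ∈ p ⁻¹ᵁ U.1 from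
    p.preimage_mono h''.le (mem_preimage F y))
  obtain ⟨m, s, hs, ht⟩ := exists_mk ℳ n t x (hx ▸ hy)
  obtain ⟨hs1, h1⟩ := psi_frac hP ℳ n h t z (hz ▸ hy) x (hx.trans hz.symm) (hx ▸ hy) hs ht
  obtain ⟨hs2, h2⟩ := psi_frac hP ℳ n h' ((psi hP ℳ n h).app W t) y hy z hz (hz ▸ hy) hs1 h1
  obtain ⟨hs3, h3⟩ := psi_frac hP ℳ n h'' t y hy x hx (hx ▸ hy) hs ht
  rw [h2, h3]
  congr 1
  · exact (congr($(ℳ.mod.val.presheaf.map_comp (homOfLE h.le).op (homOfLE h'.le).op) m)).symm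
  · exact Subtype.ext (congr($(𝒮.presheaf.map_comp (homOfLE h.le).op (homOfLE h'.le).op) s)).symm

variable (hℳ : Coh.IsQCoh ((AMod.toOS 𝒮.toQCAlg).obj ℳ.mod))

include hℳ in
lemma phi_bijective {U : Y.Opens} (hU : IsAffineOpen U) (r : Γ(Y, U)) {W : P.Opens} (hW : W ≤ p ⁻¹ᵁ Y.basicOpen r) :
    Function.Bijective ((phi (chart := chart) hP ℳ n U hU r).app W) := by
  classical
  have key := TwAdj35.comap_app_bijective_of_invertsZero
    (𝒮.res hU (hU.basicOpen r) (Y.basicOpen_le r)) (𝒮.irrelevant_le_map U hU r)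
    (ℳ.res hU (hU.basicOpen r) (Y.basicOpen_le r))
    (fun i m hm => ℳ.res_mem hU (hU.basicOpen r) (Y.basicOpen_le r) i m hm)
    (c := (𝒮.strZero U hU).hom r) ?_ ?_ (Proj16.res_invertsZero 𝒮 U hU r).isUnit n
    (RelProj.emb p chart U hU ⁻¹ᵁ W) fun x hx => ?_
  · rw [phi, phi', Scheme.Modules.Hom.comp_app, Scheme.Modules.Hom.comp_app]
    let c₁ := (Scheme.Modules.pushforwardCongr (RelProj.map_res_emb (chart := chart) hP U hU r)).hom.app
      (GrMod.tilde (𝒮.deg (Y.basicOpen r) (hU.basicOpen r)) (ℳ.deg (Y.basicOpen r) (hU.basicOpen r)) n)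
    exact ((ConcreteCategory.bijective_of_isIso (c₁.app W)).comp key :)
  · intro i z hz
    obtain ⟨q, z₀, hz₀⟩ := exists_pow_smul_eq_map hℳ hU r
      (show Γ((AMod.toOS 𝒮.toQCAlg).obj ℳ.mod, Y.basicOpen r) from z)
    let c := (𝒮.str.app (op (Y.basicOpen r))).hom (Y.presheaf.map (homOfLE (Y.basicOpen_le r)).op r ^ q)
    have hc : ℳ.res hU (hU.basicOpen r) (Y.basicOpen_le r) z₀ = c • z := hz₀
    have hmem : c • z ∈ ℳ.deg (Y.basicOpen r) (hU.basicOpen r) i := by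
      have h1 := SetLike.GradedSMul.smul_mem (A := 𝒮.deg (Y.basicOpen r) (hU.basicOpen r))
        (𝒮.str_mem (Y.basicOpen r) (hU.basicOpen r)
          (Y.presheaf.map (homOfLE (Y.basicOpen_le r)).op r ^ q)) hz
      rwa [vadd_eq_add, zero_add] at h1
    refine ⟨q, DirectSum.decompose (ℳ.deg U hU) z₀ i, SetLike.coe_mem _, ?_⟩
    rw [res_decompose, hc, DirectSum.decompose_of_mem_same _ hmem]
    refine congrArg (· • z) ?_
    show (𝒮.str.app (op (Y.basicOpen r))).hom (Y.presheaf.map (homOfLE (Y.basicOpen_le r)).op r ^ q) =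
      (𝒮.presheaf.map (homOfLE (Y.basicOpen_le r)).op).hom ((𝒮.str.app (op U)).hom r) ^ q
    rw [map_pow]
    exact congrArg (· ^ q) congr($(𝒮.str.naturality (homOfLE (Y.basicOpen_le r)).op) r)
  · intro m hm
    obtain ⟨q, hq⟩ := exists_pow_smul_eq_zero hℳ hU r (show Γ((AMod.toOS 𝒮.toQCAlg).obj ℳ.mod, U) from m) hm
    refine ⟨q, ?_⟩
    show (𝒮.str.app (op U)).hom r ^ q • m = 0
    rw [← map_pow]
    exact hq
  · obtain ⟨y, hy⟩ := hit (chart := chart) ⟨_, hU.basicOpen r⟩ (hW hx)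
    refine ⟨y, (RelProj.emb p chart U hU).isOpenEmbedding.injective ?_⟩
    exact (congrArg (fun ψ : Proj (𝒮.deg (Y.basicOpen r) (hU.basicOpen r)) ⟶ P => ψ.base y)
      (RelProj.map_res_emb hP U hU r)).trans hy

include hℳ in
lemma psi_bijective {U E : Y.affineOpens} (h : Bas U E) {W : P.Opens} (hW : W ≤ p ⁻¹ᵁ E.1) :
    Function.Bijective ((psi (chart := chart) hP ℳ n h).app W) := by
  rw [psi, Scheme.Modules.Hom.comp_app]
  let c : G (chart := chart) ℳ n ⟨Y.basicOpen h.choose, U.2.basicOpen h.choose⟩ ⟶ G (chart := chart) ℳ n E :=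
    eqToHom (congrArg _ (Subtype.ext h.choose_spec.symm))
  exact ((ConcreteCategory.bijective_of_isIso (c.app W)).comp
    (phi_bijective hP ℳ n hℳ U.2 h.choose (hW.trans (p.preimage_mono h.choose_spec.le))) :)

variable (p chart) in
/-- Families of sections in the charts. -/
abbrev Fam (W : P.Opens) : Type u := ∀ U : Y.affineOpens, Γ(G (chart := chart) ℳ n U, W)

variable (W : P.Opens) in
/-- Compatible families. -/
def grp : Submodule Γ(P, W) (Fam p chart ℳ n W) where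
  carrier := {s | ∀ (U E : Y.affineOpens) (h : Bas U E), (psi hP ℳ n h).app W (s U) = s E}
  add_mem' {a b} ha hb U E h := ((psi hP ℳ n h).app W).hom.map_add (a U) (b U) |>.trans (by
    rw [show ((psi hP ℳ n h).app W).hom (a U) = a E from ha U E h,
      show ((psi hP ℳ n h).app W).hom (b U) = b E from hb U E h]; rfl)
  zero_mem' U E h := map_zero ((psi hP ℳ n h).app W).hom
  smul_mem' c a ha U E h := (Scheme.Modules.Hom.app_smul (psi hP ℳ n h) c (a U)).trans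
    (congrArg (c • ·) (ha U E h))

/-- Restriction of families. -/
def gres {W W' : P.Opens} (i : W' ≤ W) : grp (chart := chart) hP ℳ n W →+ grp (chart := chart) hP ℳ n W' where
  toFun a := ⟨fun U => AModX.res _ i (a.1 U), fun U E h => by
    rw [AModX.app_res, a.2 U E h]⟩
  map_zero' := Subtype.ext (funext fun _ => map_zero _)
  map_add' _ _ := Subtype.ext (funext fun _ => map_add _ _ _)

/-- The presheaf of compatible families. -/
def psh : (P.Opens)ᵒᵖ ⥤ Ab.{u} where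
  obj W := AddCommGrpCat.of (grp (chart := chart) hP ℳ n W.unop)
  map i := AddCommGrpCat.ofHom (gres hP ℳ n i.unop.le)
  map_id W := AddCommGrpCat.hom_ext (AddMonoidHom.ext fun a => Subtype.ext (funext fun U =>
    AModX.res_self ((show grp (chart := chart) hP ℳ n W.unop from a).1 U)))
  map_comp i j := AddCommGrpCat.hom_ext (AddMonoidHom.ext fun a => Subtype.ext (funext fun U =>
    (AModX.res_res _ _ ((show grp (chart := chart) hP ℳ n _ from a).1 U)).symm))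

instance (W : (P.Opens)ᵒᵖ) : Module (P.ringCatSheaf.obj.obj W) ((psh (chart := chart) hP ℳ n).obj W) :=
  inferInstanceAs (Module Γ(P, W.unop) (grp (chart := chart) hP ℳ n W.unop))

/-- The presheaf of modules of compatible families. -/
def pmod : P.PresheafOfModules :=
  PresheafOfModules.ofPresheaf (R := P.ringCatSheaf.obj) (psh (chart := chart) hP ℳ n)
    fun W _ i c a => Subtype.ext (funext fun U =>
      AModX.res_smul i.unop.le (show Γ(P, W.unop) from c) ((show grp (chart := chart) hP ℳ n W.unop from a).1 U))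

theorem isSheaf : Presheaf.IsSheaf (Opens.grothendieckTopology P) (pmod (chart := chart) hP ℳ n).presheaf := by
  refine (TopCat.Presheaf.isSheaf_iff_isSheafUniqueGluing (X := P.toPresheafedSpace.carrier)
    (psh hP ℳ n)).2 fun J W sf hsf => ?_
  have hex : ∀ U : Y.affineOpens, ∃! g : Γ(G (chart := chart) ℳ n U, iSup W),
      ∀ j, AModX.res _ (le_iSup W j) g = (sf j).1 U := fun U =>
    TopCat.Sheaf.existsUnique_gluing ⟨(G (chart := chart) ℳ n U).presheaf, (G (chart := chart) ℳ n U).isSheaf⟩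
      W (fun j => (sf j).1 U) fun i j =>
        congrArg (fun a : grp (chart := chart) hP ℳ n (W i ⊓ W j) => a.1 U) (hsf i j)
  choose g hg huniq using hex
  refine ⟨⟨g, fun U E h => huniq E _ fun j => ?_⟩, fun j => Subtype.ext (funext fun U => hg U j), fun t ht =>
    Subtype.ext (funext fun U => huniq U _ fun j =>
      congrArg (fun a : grp (chart := chart) hP ℳ n (W j) => a.1 U) (ht j))⟩
  rw [← AModX.app_res, hg U j]
  exact (sf j).2 U E h

/-- The glued module. -/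
def mod : P.Modules := ⟨pmod (chart := chart) hP ℳ n, isSheaf hP ℳ n⟩

/-- The identification in a chart. -/
def lam (U : Y.Opens) (hU : IsAffineOpen U) : mod (chart := chart) hP ℳ n ⟶ G (chart := chart) ℳ n ⟨U, hU⟩ where
  val := PresheafOfModules.homMk
    { app := fun W => AddCommGrpCat.ofHom (AddMonoidHom.mk'
        (fun s => (show grp (chart := chart) hP ℳ n W.unop from s).1 ⟨U, hU⟩) fun _ _ => rfl)
      naturality := fun _ _ _ => rfl }
    fun _ _ _ => rfl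

/-- A section related to `t` across basic opens. -/
def Agree {U V : Y.affineOpens} {W : P.Opens} (t : Γ(G (chart := chart) ℳ n U, W))
    (b : Γ(G (chart := chart) ℳ n V, W)) : Prop :=
  ∀ (E : Y.affineOpens) (h : Bas U E) (h' : Bas V E) (W' : P.Opens) (i : W' ≤ W), W' ≤ p ⁻¹ᵁ E.1 →
    (psi hP ℳ n h).app W' (AModX.res _ i t) = (psi hP ℳ n h').app W' (AModX.res _ i b)

lemma Agree.res {U V : Y.affineOpens} {W W₁ : P.Opens} {t : Γ(G (chart := chart) ℳ n U, W)}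
    {b : Γ(G (chart := chart) ℳ n V, W)} (h : Agree hP ℳ n t b) (j : W₁ ≤ W) :
    Agree hP ℳ n (AModX.res _ j t) (AModX.res _ j b) := fun E h1 h2 W' i hW' => by
  rw [AModX.res_res, AModX.res_res]
  exact h E h1 h2 W' (i.trans j) hW'

include hℳ in
lemma Agree.unique {U V : Y.affineOpens} {W : P.Opens} (hW : W ≤ p ⁻¹ᵁ U.1)
    {t : Γ(G (chart := chart) ℳ n U, W)} {b b' : Γ(G (chart := chart) ℳ n V, W)}
    (h : Agree hP ℳ n t b) (h' : Agree hP ℳ n t b') : b = b' := by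
  refine GrModX.ext_val _ _ fun ⟨y, hy⟩ => ?_
  obtain ⟨E, hUE, hVE, hE⟩ := exists_bas U V (y := p (RelProj.emb p chart V.1 V.2 y))
    ⟨hW hy, mem_preimage V y⟩
  have e := (psi_bijective hP ℳ n hℳ hVE (inf_le_right : W ⊓ p ⁻¹ᵁ E.1 ≤ _)).1
    ((h E hUE hVE _ inf_le_left inf_le_right).symm.trans (h' E hUE hVE _ inf_le_left inf_le_right))
  exact congrArg (fun z => GrMod.val (V := RelProj.emb p chart V.1 V.2 ⁻¹ᵁ (W ⊓ p ⁻¹ᵁ E.1)) z ⟨y, hy, hE⟩) e

include hℳ in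
lemma exists_agree {U : Y.affineOpens} {W : P.Opens} (hW : W ≤ p ⁻¹ᵁ U.1)
    (t : Γ(G (chart := chart) ℳ n U, W)) (V : Y.affineOpens) :
    ∃ b : Γ(G (chart := chart) ℳ n V, W), Agree hP ℳ n t b := by
  let ι := {E : Y.affineOpens // Bas U E ∧ Bas V E}
  let O : ι → P.Opens := fun E => W ⊓ p ⁻¹ᵁ E.1.1
  choose a ha using fun E : ι => (psi_bijective hP ℳ n hℳ E.2.2 (inf_le_right : O E ≤ _)).2
    ((psi hP ℳ n E.2.1).app (O E) (AModX.res _ inf_le_left t))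
  have hagree : ∀ E : ι, Agree hP ℳ n (AModX.res _ (inf_le_left : O E ≤ W) t) (a E) := by
    intro E F hUF hVF W' i hW'
    refine GrModX.ext_val _ _ fun ⟨y, hy⟩ => ?_
    obtain ⟨D, hED, hFD, hD⟩ := exists_bas E.1 F (y := p (RelProj.emb p chart F.1 F.2 y))
      ⟨(i hy).2, mem_preimage F y⟩
    have key : ∀ (W'' : P.Opens) (k : W'' ≤ O E), W'' ≤ p ⁻¹ᵁ D.1 →
        (psi hP ℳ n hFD).app W'' ((psi hP ℳ n hUF).app W'' (AModX.res _ k (AModX.res _ inf_le_left t))) =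
          (psi hP ℳ n hFD).app W'' ((psi hP ℳ n hVF).app W'' (AModX.res _ k (a E))) := fun W'' k _ => by
      rw [psi_comp hP ℳ n hUF hFD (E.2.1.trans hED), psi_comp hP ℳ n hVF hFD (E.2.2.trans hED),
        ← psi_comp hP ℳ n E.2.1 hED (E.2.1.trans hED), ← psi_comp hP ℳ n E.2.2 hED (E.2.2.trans hED),
        AModX.app_res, AModX.app_res _ k (a E), ha E]
    have e := (psi_bijective hP ℳ n hℳ hFD (inf_le_right : W' ⊓ p ⁻¹ᵁ D.1 ≤ _)).1
      (key (W' ⊓ p ⁻¹ᵁ D.1) (inf_le_left.trans i) inf_le_right)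
    rw [← AModX.res_res i (inf_le_left : W' ⊓ p ⁻¹ᵁ D.1 ≤ W') (AModX.res _ inf_le_left t),
      ← AModX.res_res i (inf_le_left : W' ⊓ p ⁻¹ᵁ D.1 ≤ W') (a E),
      AModX.app_res (psi hP ℳ n hUF) (inf_le_left : W' ⊓ p ⁻¹ᵁ D.1 ≤ W'),
      AModX.app_res (psi hP ℳ n hVF) (inf_le_left : W' ⊓ p ⁻¹ᵁ D.1 ≤ W')] at e
    exact congrArg (fun z => GrMod.val (V := RelProj.emb p chart F.1 F.2 ⁻¹ᵁ (W' ⊓ p ⁻¹ᵁ D.1)) z ⟨y, hy, hD⟩) e
  let W₁ := W ⊓ p ⁻¹ᵁ V.1
  obtain ⟨b₁, hb₁, -⟩ := TopCat.Sheaf.existsUnique_gluing'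
    ⟨(G (chart := chart) ℳ n V).presheaf, (G (chart := chart) ℳ n V).isSheaf⟩ O W₁
    (fun E => homOfLE (inf_le_inf_left _ (p.preimage_mono E.2.2.le)))
    (fun x hx => by
      obtain ⟨E, hUE, hVE, hE⟩ := exists_bas U V (y := p x) ⟨hW hx.1, hx.2⟩
      exact Opens.mem_iSup.2 ⟨⟨E, hUE, hVE⟩, hx.1, hE⟩) a
    (fun E F => Agree.unique hP ℳ n hℳ (t := AModX.res _ (inf_le_left.trans inf_le_left : O E ⊓ O F ≤ W) t)
      ((inf_le_left.trans inf_le_left).trans hW)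
      (by have := (hagree E).res hP ℳ n (inf_le_left : O E ⊓ O F ≤ O E); rwa [AModX.res_res] at this)
      (by have := (hagree F).res hP ℳ n (inf_le_right : O E ⊓ O F ≤ O F); rwa [AModX.res_res] at this))
  have hpre : RelProj.emb p chart V.1 V.2 ⁻¹ᵁ W₁ = RelProj.emb p chart V.1 V.2 ⁻¹ᵁ W :=
    le_antisymm (fun y hy => hy.1) fun y hy => ⟨hy, mem_preimage V y⟩
  refine ⟨(GrMod.tilde (𝒮.deg V.1 V.2) (ℳ.deg V.1 V.2) n).presheaf.map (eqToHom hpre.symm).op b₁,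
    fun E hUE hVE W' i hW' => ?_⟩
  refine ((hagree ⟨E, hUE, hVE⟩) E hUE hVE W' (le_inf i hW') hW' |> fun h => ?_)
  rw [AModX.res_res] at h
  refine h.trans (congrArg _ ?_)
  rw [show a ⟨E, hUE, hVE⟩ = _ from (hb₁ ⟨E, hUE, hVE⟩).symm]
  exact GrModX.ext_val _ _ fun _ => rfl

include hℳ in
theorem isRelTilde : RelProj.IsRelTilde 𝒮 p chart ℳ n (mod hP ℳ n) (lam hP ℳ n) where
  bijective U hU W hW := by
    constructor
    · intro s s' e
      refine Subtype.ext (funext fun V => ?_)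
      have hag : ∀ a : grp (chart := chart) hP ℳ n W, Agree hP ℳ n (a.1 ⟨U, hU⟩) (a.1 V) :=
        fun a E h h' W' i _ => by rw [AModX.app_res, AModX.app_res, a.2 _ E h, a.2 _ E h']
      exact Agree.unique hP ℳ n hℳ (U := ⟨U, hU⟩) hW (hag s) ((show ((s' : grp (chart := chart) hP ℳ n W).1 ⟨U, hU⟩) =
        (s : grp (chart := chart) hP ℳ n W).1 ⟨U, hU⟩ from e.symm) ▸ hag s')
    · intro t
      choose b hb using exists_agree hP ℳ n hℳ (U := ⟨U, hU⟩) hW t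
      have hcomp : ∀ (V E : Y.affineOpens) (h : Bas V E), (psi hP ℳ n h).app W (b V) = b E := fun V E h => by
        refine Agree.unique hP ℳ n hℳ (U := ⟨U, hU⟩) (V := E) hW (t := t) (fun F hUF hEF W' i hW' => ?_) (hb E)
        rw [hb V F hUF (h.trans hEF) W' i hW', ← psi_comp hP ℳ n h hEF (h.trans hEF), AModX.app_res]
      let a : grp (chart := chart) hP ℳ n W := ⟨b, hcomp⟩
      have hU' : a.1 ⟨U, hU⟩ = t :=
        Agree.unique hP ℳ n hℳ (U := ⟨U, hU⟩) (V := ⟨U, hU⟩) hW (t := t) (hb _) fun F _ _ W' i _ => rfl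
      exact ⟨a, hU'⟩
  compat U hU r W s y hy hy' := by
    have h : Bas ⟨U, hU⟩ ⟨Y.basicOpen r, hU.basicOpen r⟩ := ⟨r, rfl⟩
    let a : grp (chart := chart) hP ℳ n W := s
    show GrMod.val (V := RelProj.emb p chart (Y.basicOpen r) (hU.basicOpen r) ⁻¹ᵁ W)
      (a.1 ⟨Y.basicOpen r, hU.basicOpen r⟩) ⟨y, hy⟩ = _
    rw [← a.2 _ _ h]
    obtain ⟨m, t, ht, e⟩ := exists_mk ℳ n (a.1 ⟨U, hU⟩) _ hy'
    obtain ⟨ht', e'⟩ := psi_frac hP ℳ n h (a.1 ⟨U, hU⟩) y hy _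
      (congrArg (fun ψ : Proj (𝒮.deg (Y.basicOpen r) (hU.basicOpen r)) ⟶ P => ψ.base y)
        (RelProj.map_res_emb hP U hU r)) hy' ht e
    refine e'.trans (Eq.symm ?_)
    refine (congrArg _ e).trans ?_
    exact GrMod.locModMap_mk _ _ _ _ _ _

include hP hℳ in
theorem exists_isRelTilde : ∃ (F : P.Modules) (lam : ∀ (U : Y.Opens) (hU : IsAffineOpen U),
    F ⟶ (Scheme.Modules.pushforward (RelProj.emb p chart U hU)).obj (GrMod.tilde (𝒮.deg U hU) (ℳ.deg U hU) n)),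
    RelProj.IsRelTilde 𝒮 p chart ℳ n F lam :=
  ⟨_, _, isRelTilde hP ℳ n hℳ⟩

end Groth.Agent.RelTildeX.Exist
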